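import Groth.Agent.SchDenseNilLib.Algebra
import Mathlib.AlgebraicGeometry.Morphisms.Flat
import Mathlib.AlgebraicGeometry.Pullbacks

/-!
Schematic density can be tested modulo a nilpotent ideal with free graded pieces.
-/

set_option autoImplicit false
universe u
open CategoryTheory CategoryTheory.Limits AlgebraicGeometry

namespace Groth.Agent.SchDenseNilLib

variable {X : Scheme.{u}} {A : CommRingCat.{u}}

/-- The structure map on sections. -/
noncomputable def str (p : X ⟶ Spec A) (V : X.Opens) : A ⟶ Γ(X, V) :=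
  (Scheme.ΓSpecIso A).inv ≫ p.appLE ⊤ V (by simp)

lemma str_comp {Z : Scheme.{u}} (p : X ⟶ Spec A) (v : Z ⟶ X) (V : X.Opens) (W : Z.Opens)
    (e : W ≤ v ⁻¹ᵁ V) : str p V ≫ v.appLE V W e = str (v ≫ p) W := by
  simp only [str, Category.assoc, Scheme.Hom.appLE_comp_appLE]

lemma str_flat (p : X ⟶ Spec A) [Flat p] {V : X.Opens} (hV : IsAffineOpen V) :
    (str p V).hom.Flat := by
  rw [str, CommRingCat.hom_comp]
  exact RingHom.Flat.comp (RingHom.Flat.of_bijective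
    (ConcreteCategory.bijective_of_isIso (Scheme.ΓSpecIso A).inv)) (p.flat_appLE (isAffineOpen_top _) hV _)

lemma fromSpec_comp (p : X ⟶ Spec A) {V : X.Opens} (hV : IsAffineOpen V) :
    hV.fromSpec ≫ p = Spec.map (str p V) := by
  rw [← IsAffineOpen.SpecMap_appLE_fromSpec p (isAffineOpen_top _) hV (show V ≤ p ⁻¹ᵁ ⊤ by simp),
    IsAffineOpen.fromSpec_top, Scheme.isoSpec_Spec_inv, str, Spec.map_comp]

variable (p : X ⟶ Spec A) (J : Ideal A)

local notation "sJ" => Spec.map (CommRingCat.ofHom (Ideal.Quotient.mk J))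

theorem mem_map_of_app_eq_zero {V : X.Opens} (hV : IsAffineOpen V) (b : Γ(X, V))
    (hb : (pullback.fst p sJ).app V b = 0) : b ∈ J.map (str p V).hom := by
  let I : Ideal Γ(X, V) := J.map (str p V).hom
  let g : CommRingCat.of (A ⧸ J) ⟶ CommRingCat.of (Γ(X, V) ⧸ I) :=
    CommRingCat.ofHom (Ideal.Quotient.lift J ((Ideal.Quotient.mk I).comp (str p V).hom)
      fun x hx => Ideal.Quotient.eq_zero_iff_mem.2 (Ideal.mem_map_of_mem _ hx))
  let q : Γ(X, V) ⟶ CommRingCat.of (Γ(X, V) ⧸ I) := CommRingCat.ofHom (Ideal.Quotient.mk I)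
  have hcomm : (Spec.map q ≫ hV.fromSpec) ≫ p = Spec.map g ≫ sJ := by
    rw [Category.assoc, fromSpec_comp p hV, ← Spec.map_comp, ← Spec.map_comp]
    rfl
  let ψ : Spec (CommRingCat.of (Γ(X, V) ⧸ I)) ⟶ pullback p sJ :=
    pullback.lift (Spec.map q ≫ hV.fromSpec) (Spec.map g) hcomm
  have hψ : ψ ≫ pullback.fst p sJ = Spec.map q ≫ hV.fromSpec := pullback.lift_fst _ _ _
  have e : ⊤ ≤ (Spec.map q ≫ hV.fromSpec) ⁻¹ᵁ V := by
    rw [Scheme.Hom.comp_preimage, hV.fromSpec_preimage_self]; simp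
  have e' : ⊤ ≤ ψ ⁻¹ᵁ ((pullback.fst p sJ) ⁻¹ᵁ V) := by
    rw [← Scheme.Hom.comp_preimage, hψ]; exact e
  have h1 : (Spec.map q ≫ hV.fromSpec).appLE V ⊤ e b = 0 := by
    have h2 : (pullback.fst p sJ).app V ≫ ψ.appLE ((pullback.fst p sJ) ⁻¹ᵁ V) ⊤ e' =
        (Spec.map q ≫ hV.fromSpec).appLE V ⊤ e := by
      rw [Scheme.Hom.app_eq_appLE, Scheme.Hom.appLE_comp_appLE]
      congr 1
    rw [← h2, CommRingCat.comp_apply, hb, map_zero]
  have h3 : (Spec.map q ≫ hV.fromSpec).appLE V ⊤ e = q ≫ (Scheme.ΓSpecIso _).inv := by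
    have hf : hV.fromSpec.appLE V ⊤ (by rw [hV.fromSpec_preimage_self]) =
        (Scheme.ΓSpecIso Γ(X, V)).inv := by
      rw [Scheme.Hom.appLE, hV.fromSpec_app_self]
      simp only [Category.assoc, ← Functor.map_comp]
      exact (congrArg ((Scheme.ΓSpecIso Γ(X, V)).inv ≫ ·)
        ((Spec Γ(X, V)).presheaf.map_id _)).trans (Category.comp_id _)
    rw [← Scheme.Hom.appLE_comp_appLE (Spec.map q) hV.fromSpec V ⊤ ⊤
      (by rw [hV.fromSpec_preimage_self]) (by simp), hf, Scheme.ΓSpecIso_inv_naturality,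
      Scheme.Hom.appTop, Scheme.Hom.app_eq_appLE]
    rfl
  rw [h3, CommRingCat.comp_apply] at h1
  have h4 : (Ideal.Quotient.mk I) b = 0 :=
    (ConcreteCategory.bijective_of_isIso (Scheme.ΓSpecIso (CommRingCat.of (Γ(X, V) ⧸ I))).inv).1
      (h1.trans (map_zero _).symm)
  exact Ideal.Quotient.eq_zero_iff_mem.1 h4

lemma app_mem_map_eq_zero {V : X.Opens} (b : Γ(X, V)) (hb : b ∈ J.map (str p V).hom) :
    (pullback.fst p sJ).app V b = 0 := by
  let π := pullback.fst p sJ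
  have hk : J.map (str p V).hom ≤ RingHom.ker (π.app V).hom := by
    rw [Ideal.map_le_iff_le_comap]
    intro x hx
    rw [Ideal.mem_comap, RingHom.mem_ker]
    have h1 : str p V ≫ π.app V = str (π ≫ p) (π ⁻¹ᵁ V) := by
      rw [Scheme.Hom.app_eq_appLE, str_comp]
    have h2 : π ≫ p = pullback.snd p sJ ≫ sJ := pullback.condition
    have h3 : str (π ≫ p) (π ⁻¹ᵁ V) = CommRingCat.ofHom (Ideal.Quotient.mk J) ≫
        str (pullback.snd p sJ) (π ⁻¹ᵁ V) := by
      simp only [str]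
      rw [← Category.assoc (CommRingCat.ofHom _), Scheme.ΓSpecIso_inv_naturality, Category.assoc]
      congr 1
      rw [Scheme.Hom.appTop, Scheme.Hom.app_eq_appLE]
      refine Eq.trans ?_ (Scheme.Hom.appLE_comp_appLE (pullback.snd p sJ) sJ ⊤ (sJ ⁻¹ᵁ ⊤) (π ⁻¹ᵁ V) le_rfl
        (fun _ _ => trivial)).symm
      congr 1
    calc π.app V ((str p V).hom x) = (str p V ≫ π.app V) x := rfl
      _ = str (pullback.snd p sJ) (π ⁻¹ᵁ V) (Ideal.Quotient.mk J x) := by rw [h1, h3]; rfl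
      _ = 0 := by rw [Ideal.Quotient.eq_zero_iff_mem.2 hx, map_zero]
  exact hk hb

theorem schDense (hJ : IsNilpotent J)
    (hfree : ∀ k : ℕ, Module.Free (A ⧸ J) (TensorProduct A (A ⧸ J) ↥(J ^ k))) [Flat p]
    {ι : Type u} (Z : ι → Scheme.{u}) (v : ∀ i, Z i ⟶ X) [∀ i, Flat (v i ≫ p)]
    (h0 : ∀ (V : (pullback p sJ).Opens) (t : Γ(pullback p sJ, V)),
      (∀ i, (pullback.map (v i ≫ p) sJ p sJ (v i) (𝟙 _) (𝟙 _)
        (Category.comp_id _) ((Category.comp_id _).trans (Category.id_comp _).symm)).app V t = 0) → t = 0)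
    (V : X.Opens) (t : Γ(X, V)) (ht : ∀ i, (v i).app V t = 0) : t = 0 := by
  classical
  -- reduce to affine opens
  suffices haff : ∀ (V' : X.Opens) (hV' : IsAffineOpen V') (t' : Γ(X, V')),
      (∀ i, (v i).app V' t' = 0) → t' = 0 by
    refine X.sheaf.eq_of_locally_eq' (fun V' : {V' : X.affineOpens // V'.1 ≤ V} => V'.1.1) V
      (fun V' => homOfLE V'.2) ?_ _ _ (fun V' => ?_)
    · intro x hx
      obtain ⟨_, ⟨W, hW, rfl⟩, hxW, hWV⟩ :=
        X.isBasis_affineOpens.exists_subset_of_mem_open hx V.isOpen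
      exact TopologicalSpace.Opens.mem_iSup.2 ⟨⟨⟨W, hW⟩, hWV⟩, hxW⟩
    · refine (haff _ V'.1.2 _ fun i => ?_).trans (map_zero (X.presheaf.map (homOfLE V'.2).op).hom).symm
      show ((X.presheaf.map (homOfLE V'.2).op) ≫ (v i).app V'.1.1) t = 0
      rw [Scheme.Hom.naturality, CommRingCat.comp_apply, ht, map_zero]
  intro V' hV' t' ht'
  let ι' := Σ i : ι, {W : (Z i).affineOpens // W.1 ≤ (v i) ⁻¹ᵁ V'}
  letI : Algebra A Γ(X, V') := (str p V').hom.toAlgebra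
  letI : ∀ j : ι', Algebra A Γ(Z j.1, j.2.1.1) := fun j => (str (v j.1 ≫ p) j.2.1.1).hom.toAlgebra
  haveI : ∀ j : ι', Module.Flat A Γ(Z j.1, j.2.1.1) := fun j => str_flat (v j.1 ≫ p) j.2.1.2
  let f : ∀ j : ι', Γ(X, V') →ₐ[A] Γ(Z j.1, j.2.1.1) := fun j =>
    { ((v j.1).appLE V' j.2.1.1 j.2.2).hom with
      commutes' := fun a => congr(($(str_comp p (v j.1) V' j.2.1.1 j.2.2)).hom a) }
  refine eq_zero_of_forall J f hJ hfree (fun b hb => ?_) t' fun j => ?_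
  · refine mem_map_of_app_eq_zero p J hV' b (h0 _ _ fun i => ?_)
    let m := pullback.map (v i ≫ p) sJ p sJ (v i) (𝟙 _) (𝟙 _)
      (Category.comp_id _) ((Category.comp_id _).trans (Category.id_comp _).symm)
    let πX := pullback.fst p sJ
    let πZ := pullback.fst (v i ≫ p) sJ
    have hm : m ≫ πX = πZ ≫ v i := pullback.lift_fst _ _ _
    show m.app (πX ⁻¹ᵁ V') (πX.app V' b) = 0
    refine (pullback (v i ≫ p) sJ).sheaf.eq_of_locally_eq'
      (fun W : {W : (Z i).affineOpens // W.1 ≤ (v i) ⁻¹ᵁ V'} => πZ ⁻¹ᵁ W.1.1) _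
      (fun W => homOfLE ?_) ?_ _ _ (fun W => ?_)
    · rw [← Scheme.Hom.comp_preimage, hm, Scheme.Hom.comp_preimage]
      exact fun y hy => W.2 hy
    · intro y hy
      rw [← Scheme.Hom.comp_preimage, hm, Scheme.Hom.comp_preimage] at hy
      obtain ⟨_, ⟨W, hW, rfl⟩, hyW, hWV⟩ :=
        (Z i).isBasis_affineOpens.exists_subset_of_mem_open hy ((v i) ⁻¹ᵁ V').isOpen
      exact TopologicalSpace.Opens.mem_iSup.2 ⟨⟨⟨W, hW⟩, hWV⟩, hyW⟩
    · refine Eq.trans ?_ (map_zero ((pullback (v i ≫ p) sJ).presheaf.map (homOfLE _).op).hom).symm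
      show (πX.app V' ≫ m.app (πX ⁻¹ᵁ V') ≫ (pullback (v i ≫ p) sJ).presheaf.map _) b = 0
      have hc : πX.app V' ≫ m.app (πX ⁻¹ᵁ V') ≫ (pullback (v i ≫ p) sJ).presheaf.map (homOfLE
          (show πZ ⁻¹ᵁ W.1.1 ≤ m ⁻¹ᵁ (πX ⁻¹ᵁ V') from by
            rw [← Scheme.Hom.comp_preimage, hm, Scheme.Hom.comp_preimage]
            exact fun y hy => W.2 hy)).op =
          (v i).appLE V' W.1.1 W.2 ≫ πZ.app W.1.1 := by
        rw [Scheme.Hom.app_eq_appLE πX, Scheme.Hom.app_eq_appLE m, Scheme.Hom.appLE_map,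
          Scheme.Hom.appLE_comp_appLE, Scheme.Hom.app_eq_appLE πZ, Scheme.Hom.appLE_comp_appLE]
        congr 1
      rw [hc, CommRingCat.comp_apply]
      exact app_mem_map_eq_zero (v i ≫ p) J _ (hb ⟨i, W⟩)
  · show (v j.1).appLE V' j.2.1.1 j.2.2 t' = 0
    rw [Scheme.Hom.appLE, CommRingCat.comp_apply, ht', map_zero]

end Groth.Agent.SchDenseNilLib
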