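import Mathlib.RingTheory.Flat.Basic
import Mathlib.RingTheory.Nilpotent.Basic
import Mathlib.RingTheory.Ideal.Operations
import Mathlib.LinearAlgebra.FreeModule.Basic
import Mathlib.LinearAlgebra.TensorProduct.Quotient

/-!
Injectivity into a product of flat algebras can be tested modulo a nilpotent ideal with free
graded pieces.
-/

set_option autoImplicit false
universe u v w

open TensorProduct

namespace Groth.Agent.SchDenseNilLib

variable {A : Type u} [CommRing A] (J : Ideal A)

theorem mem_of_sum_mem {C : Type v} [CommRing C] [Algebra A C] [Module.Flat A C] (k : ℕ)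
    {σ : Type w} [DecidableEq σ] (s : Finset σ) (m : σ → ↥(J ^ k)) (ξ : σ → (↥(J ^ k) →ₗ[A] A ⧸ J))
    (hξ : ∀ a ∈ s, ∀ b ∈ s, ξ a (m b) = if a = b then 1 else 0) (c : σ → C)
    (hc : ∑ a ∈ s, (m a : A) • c a ∈ (J ^ (k + 1)).map (algebraMap A C)) {a : σ} (ha : a ∈ s) :
    c a ∈ J.map (algebraMap A C) := by
  classical
  let μ : ↥(J ^ k) ⊗[A] C →ₗ[A] C :=
    (TensorProduct.lid A C).toLinearMap ∘ₗ (J ^ k).subtype.rTensor C
  have hμinj : Function.Injective μ :=
    (TensorProduct.lid A C).injective.comp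
      (Module.Flat.rTensor_preserves_injective_linearMap _ Subtype.val_injective)
  let π : A ⧸ J →ₗ[A] C ⧸ J.map (algebraMap A C) :=
    Submodule.liftQ J ((Ideal.Quotient.mkₐ A (J.map (algebraMap A C))).toLinearMap ∘ₗ
        Algebra.linearMap A C)
      (fun x hx => by
        show Ideal.Quotient.mk (J.map (algebraMap A C)) (algebraMap A C x) = 0
        rw [Ideal.Quotient.eq_zero_iff_mem]
        exact Ideal.mem_map_of_mem _ hx)
  have hπ : ∀ r : A, π (Ideal.Quotient.mk J r) = Ideal.Quotient.mk _ (algebraMap A C r) := fun r => rfl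
  let χ : ↥(J ^ k) ⊗[A] C →ₗ[A] C ⧸ J.map (algebraMap A C) :=
    TensorProduct.lift ((LinearMap.mul A (C ⧸ J.map (algebraMap A C))).compl₂
      (Ideal.Quotient.mkₐ A (J.map (algebraMap A C))).toLinearMap ∘ₗ (π ∘ₗ ξ a))
  obtain ⟨z, hz⟩ : ∃ z : ↥(J ^ k) ⊗[A] C, μ z = ∑ a ∈ s, (m a : A) • c a ∧ χ z = 0 := by
    have key : ∀ y ∈ (J ^ (k + 1)).map (algebraMap A C),
        ∃ z : ↥(J ^ k) ⊗[A] C, μ z = y ∧ χ z = 0 := by
      intro y hy
      rw [Ideal.map, Ideal.span] at hy
      induction hy using Submodule.span_induction with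
      | mem y hy =>
        obtain ⟨r, hr, rfl⟩ := hy
        have hle : J ^ (k + 1) ≤ J ^ k := Ideal.pow_le_pow_right (Nat.le_succ k)
        refine ⟨(⟨r, hle hr⟩ : ↥(J ^ k)) ⊗ₜ[A] (1 : C), by simp [μ, Algebra.smul_def], ?_⟩
        have h0 : ξ a ⟨r, hle hr⟩ = 0 := by
          have hker : J • (⊤ : Submodule A ↥(J ^ k)) ≤ LinearMap.ker (ξ a) :=
            Submodule.smul_le.2 fun x hx y _ => by
              rw [LinearMap.mem_ker, map_smul, Algebra.smul_def, Ideal.Quotient.algebraMap_eq,
                Ideal.Quotient.eq_zero_iff_mem.2 hx, zero_mul]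
          have hr' : r ∈ (J • (⊤ : Submodule A ↥(J ^ k))).map (J ^ k).subtype := by
            rw [Submodule.map_smul'', Submodule.map_top, Submodule.range_subtype, smul_eq_mul,
              ← pow_succ']
            exact hr
          obtain ⟨w, hw, hwr⟩ := hr'
          have hwr' : w = ⟨r, hle hr⟩ := Subtype.ext hwr
          exact hwr' ▸ hker hw
        simp [χ, h0]
      | zero => exact ⟨0, map_zero _, map_zero _⟩
      | add x y _ _ hx hy =>
        obtain ⟨z, hz, hz'⟩ := hx
        obtain ⟨z', hw, hw'⟩ := hy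
        exact ⟨z + z', by rw [map_add, hz, hw], by rw [map_add, hz', hw', add_zero]⟩
      | smul r x _ hx =>
        obtain ⟨z, hz, hz'⟩ := hx
        refine ⟨(LinearMap.mulLeft A r).lTensor _ z, ?_, ?_⟩
        · rw [← hz]
          clear hz hz'
          induction z using TensorProduct.induction_on with
          | zero => simp
          | tmul p q => simp [μ, mul_comm]
          | add p q hp hq => simp only [map_add, hp, hq, smul_add]
        · have : χ ((LinearMap.mulLeft A r).lTensor _ z) = Ideal.Quotient.mk _ r * χ z := by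
            clear hz hz'
            induction z using TensorProduct.induction_on with
            | zero => simp
            | tmul p q => simp [χ, mul_left_comm]
            | add p q hp hq => simp only [map_add, hp, hq, mul_add]
          rw [this, hz', mul_zero]
    exact key _ hc
  have hzeq : z = ∑ b ∈ s, m b ⊗ₜ[A] c b := hμinj (by rw [hz.1, map_sum]; simp [μ])
  have h := hz.2
  rw [hzeq, map_sum, Finset.sum_eq_single a (fun b hb hba => by
    simp [χ, hξ a ha b hb, Ne.symm hba]) (fun h => absurd ha h)] at h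
  rw [← Ideal.Quotient.eq_zero_iff_mem]
  have h1 : π (1 : A ⧸ J) = 1 := by
    rw [← map_one (Ideal.Quotient.mk J), hπ, map_one, map_one]
  simpa [χ, hξ a ha a ha, h1] using h

/-- The injectivity criterion. -/
theorem eq_zero_of_forall {B : Type v} [CommRing B] [Algebra A B] {ι : Type*} {C : ι → Type v}
    [∀ i, CommRing (C i)] [∀ i, Algebra A (C i)] [∀ i, Module.Flat A (C i)]
    (f : ∀ i, B →ₐ[A] C i) (hJ : IsNilpotent J)
    (hfree : ∀ k : ℕ, Module.Free (A ⧸ J) ((A ⧸ J) ⊗[A] ↥(J ^ k)))
    (h0 : ∀ b : B, (∀ i, f i b ∈ J.map (algebraMap A (C i))) → b ∈ J.map (algebraMap A B))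
    (b : B) (hb : ∀ i, f i b = 0) : b = 0 := by
  classical
  obtain ⟨N, hN⟩ := hJ
  suffices h : ∀ k, b ∈ (J ^ k).map (algebraMap A B) by
    have := h N
    rwa [hN, Ideal.zero_eq_bot, Ideal.map_bot, Ideal.mem_bot] at this
  intro k
  induction k with
  | zero => rw [pow_zero, Ideal.one_eq_top, Ideal.map_top]; trivial
  | succ k ih =>
    haveI := hfree k
    let Bs := Module.Free.chooseBasis (A ⧸ J) ((A ⧸ J) ⊗[A] ↥(J ^ k))
    have hsur : ∀ σ, ∃ m : ↥(J ^ k), (1 : A ⧸ J) ⊗ₜ[A] m = Bs σ := fun σ =>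
      (TensorProduct.mk_surjective A (↥(J ^ k)) (A ⧸ J) Ideal.Quotient.mk_surjective) (Bs σ)
    choose m hm using hsur
    let ξ : Module.Free.ChooseBasisIndex (A ⧸ J) ((A ⧸ J) ⊗[A] ↥(J ^ k)) → (↥(J ^ k) →ₗ[A] A ⧸ J) :=
      fun σ => ((Bs.coord σ).restrictScalars A) ∘ₗ (TensorProduct.mk A (A ⧸ J) ↥(J ^ k) 1)
    have hξ : ∀ σ τ, ξ σ (m τ) = if σ = τ then 1 else 0 := fun σ τ => by
      simp [ξ, hm, Finsupp.single_apply, eq_comm]
    let S : Submodule B B := Submodule.span B (Set.range fun σ => algebraMap A B (m σ)) ⊔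
      (J ^ (k + 1)).map (algebraMap A B)
    have hS : b ∈ S := by
      suffices h : (J ^ k).map (algebraMap A B) ≤ S from h ih
      rw [Ideal.map_le_iff_le_comap]
      intro r hr
      rw [Ideal.mem_comap]
      let T : Submodule A ↥(J ^ k) := Submodule.span A (Set.range m)
      have hkey : ∀ x : ↥(J ^ k), ∃ t ∈ T, (1 : A ⧸ J) ⊗ₜ[A] x = (1 : A ⧸ J) ⊗ₜ[A] t := by
        intro x
        refine ⟨∑ σ ∈ (Bs.repr (1 ⊗ₜ[A] x)).support,
          (Function.surjInv Ideal.Quotient.mk_surjective (Bs.repr (1 ⊗ₜ[A] x) σ)) • m σ,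
          sum_mem fun σ _ => Submodule.smul_mem _ _ (Submodule.subset_span ⟨σ, rfl⟩), ?_⟩
        rw [TensorProduct.tmul_sum]
        conv_lhs => rw [← Bs.linearCombination_repr (1 ⊗ₜ[A] x)]
        rw [Finsupp.linearCombination_apply, Finsupp.sum]
        refine Finset.sum_congr rfl fun σ _ => ?_
        rw [TensorProduct.tmul_smul, hm, ← IsScalarTower.algebraMap_smul (A ⧸ J)
          (Function.surjInv Ideal.Quotient.mk_surjective (Bs.repr (1 ⊗ₜ[A] x) σ)),
          Ideal.Quotient.algebraMap_eq, Function.surjInv_eq Ideal.Quotient.mk_surjective]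
      obtain ⟨t, ht, htx⟩ := hkey ⟨r, hr⟩
      have h1 : (TensorProduct.quotTensorEquivQuotSMul (↥(J ^ k)) J) ((1 : A ⧸ J) ⊗ₜ[A] (⟨r, hr⟩ - t)) = 0 := by
        rw [TensorProduct.tmul_sub, htx, sub_self, map_zero]
      rw [← map_one (Ideal.Quotient.mk J), TensorProduct.quotTensorEquivQuotSMul_mk_tmul, one_smul,
        Submodule.Quotient.mk_eq_zero] at h1
      have h2 : r - (t : A) ∈ J ^ (k + 1) := by
        have := (Submodule.mem_map_of_mem (f := (J ^ k).subtype) h1)
        rw [Submodule.map_smul'', Submodule.map_top, Submodule.range_subtype] at this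
        rw [pow_succ']
        exact this
      rw [show r = (t : A) + (r - (t : A)) by ring, map_add]
      refine add_mem (Submodule.mem_sup_left ?_) (Submodule.mem_sup_right (Ideal.mem_map_of_mem _ h2))
      clear htx h1 h2
      induction ht using Submodule.span_induction with
      | mem x hx =>
        obtain ⟨σ, rfl⟩ := hx
        exact Submodule.subset_span ⟨σ, rfl⟩
      | zero => simp
      | add x y _ _ hx hy => rw [Submodule.coe_add, map_add]; exact add_mem hx hy
      | smul a x _ hx =>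
        rw [Submodule.coe_smul, smul_eq_mul, map_mul]
        exact Submodule.smul_mem _ (algebraMap A B a) hx
    obtain ⟨y, hy, z, hz, hyz⟩ := Submodule.mem_sup.1 hS
    obtain ⟨c, rfl⟩ := Finsupp.mem_span_range_iff_exists_finsupp.1 hy
    have hc : ∀ σ ∈ c.support, c σ ∈ J.map (algebraMap A B) := by
      intro σ hσ
      refine h0 _ fun i => ?_
      refine mem_of_sum_mem J k c.support m ξ (fun a _ b _ => hξ a b) (fun σ => f i (c σ)) ?_ hσ
      have h3 := congrArg (f i) hyz
      rw [map_add, hb, add_eq_zero_iff_eq_neg] at h3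
      have h4 : ∑ σ ∈ c.support, (m σ : A) • f i (c σ) = -f i z := by
        rw [← h3, Finsupp.sum, map_sum]
        refine Finset.sum_congr rfl fun σ _ => ?_
        rw [smul_eq_mul, map_mul, AlgHom.commutes, Algebra.smul_def, mul_comm]
      rw [h4]
      refine neg_mem ?_
      have h5 := Ideal.mem_map_of_mem ((f i : B →ₐ[A] C i) : B →+* C i) hz
      rw [Ideal.map_map, AlgHom.comp_algebraMap] at h5
      exact h5
    rw [← hyz]
    refine add_mem (sum_mem fun σ hσ => ?_) hz
    show c σ • algebraMap A B (m σ) ∈ _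
    rw [smul_eq_mul, pow_succ', Ideal.map_mul]
    exact Ideal.mul_mem_mul (hc σ hσ) (Ideal.mem_map_of_mem _ (m σ).2)

end Groth.Agent.SchDenseNilLib
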